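import Groth.Agent.Ega4C.NormGeom
import Groth.Agent.Ega4C.NormalTensor
import Mathlib.RingTheory.Localization.BaseChange

/-!
# `A ⊗[k] B` is normal for `A` geometrically normal and `B` normal (no finiteness)
-/

set_option autoImplicit false
universe u

namespace K114.GeomNormTensor

open EGA4 TensorProduct Groth.Agent.Ega4C

/-- A localization of a geometrically normal algebra is geometrically normal. -/
theorem isGeomNormal_of_isLocalization (k : Type u) [Field k] (A : Type u) [CommRing A]
    [Algebra k A] (M : Submonoid A) (B : Type u) [CommRing B] [Algebra A B] [IsLocalization M B]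
    [Algebra k B] [IsScalarTower k A B] (h : EGA4.IsGeomNormal k A) :
    EGA4.IsGeomNormal k B := by
  intro k' _ _ hfin
  have h1 : EGA4.IsNormalRing (k' ⊗[k] A) := h k' hfin
  let e : (A ⊗[k] k') ⊗[A] B ≃+* k' ⊗[k] B :=
    (Algebra.TensorProduct.comm A (A ⊗[k] k') B).toRingEquiv.trans
      ((Algebra.TensorProduct.cancelBaseChange k A A B k').toRingEquiv.trans
        (Algebra.TensorProduct.comm k B k').toRingEquiv)
  have h2 : EGA4.IsNormalRing (A ⊗[k] k') :=
    NormUnion.isNormalRing_of_ringEquiv (Algebra.TensorProduct.comm k A k').toRingEquiv h1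
  have h3 : IsLocalization (Algebra.algebraMapSubmonoid (A ⊗[k] k') M) ((A ⊗[k] k') ⊗[A] B) :=
    IsLocalization.tensor (R := A) (S := A ⊗[k] k') (A := B) M
  have h4 : EGA4.IsNormalRing ((A ⊗[k] k') ⊗[A] B) :=
    NormUnion.isNormalRing_of_isLocalization _ _ (Algebra.algebraMapSubmonoid (A ⊗[k] k') M) h2
  exact NormUnion.isNormalRing_of_ringEquiv e.symm h4

/-- A geometrically normal field extension is geometrically reduced. -/
theorem isGeometricallyReduced_of_isGeomNormal (k : Type u) [Field k] (K : Type u) [CommRing K]
    [Algebra k K] (h : EGA4.IsGeomNormal k K) : Algebra.IsGeometricallyReduced k K := by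
  rw [Algebra.isGeometricallyReduced_field_iff]
  exact NormalRing.isReduced_of_isNormalRing _
    (NormGeom.isNormalRing_tensor_of_isGeomNormal k K h (AlgebraicClosure k))

/-- The case of two integrally closed domains, `A` geometrically normal. -/
theorem isNormalRing_tensor_domain (k A B : Type u) [Field k] [CommRing A] [CommRing B] [IsDomain A]
    [IsDomain B] [IsIntegrallyClosed A] [IsIntegrallyClosed B] [Algebra k A] [Algebra k B]
    (hA : EGA4.IsGeomNormal k A) : IsNormalRing (A ⊗[k] B) := by
  classical
  apply NormalRing2.isNormalRing_of_finite_subsets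
  intro F
  obtain ⟨N, hN, hFN⟩ := TensorProduct.exists_finite_submodule_right_of_setFinite
    (F : Set (A ⊗[k] B)) F.finite_toSet
  obtain ⟨G, hG⟩ := (Module.Finite.iff_fg.1 hN)
  let K := FractionRing A
  let L := FractionRing B
  let L' : IntermediateField k L := IntermediateField.adjoin k (algebraMap B L '' (G : Set B))
  let B' := NormalTensor.inter k B L'
  have hfr : IsFractionRing B' L' := NormalTensor.isFractionRing_inter (k := k) (L := L) (G : Set B)
  have hcl : IsIntegrallyClosed B' := NormalTensor.isIntegrallyClosed_inter L'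
  have hGB : (G : Set B) ⊆ B' := fun b hb =>
    IntermediateField.subset_adjoin k _ ⟨b, hb, rfl⟩
  have hNB : N ≤ B'.toSubmodule := by
    rw [← hG, Submodule.span_le]
    exact hGB
  have hess : Algebra.EssFiniteType k L' := by
    rw [IntermediateField.essFiniteType_iff]
    refine ⟨G.image (algebraMap B L), ?_⟩
    rw [Finset.coe_image]
  have hgK : EGA4.IsGeomNormal k K := isGeomNormal_of_isLocalization k A (nonZeroDivisors A) K hA
  have hgeom : Algebra.IsGeometricallyReduced k K := isGeometricallyReduced_of_isGeomNormal k K hgK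
  have hnoeth : IsNoetherianRing (K ⊗[k] L') :=
    Algebra.EssFiniteType.isNoetherianRing K (K ⊗[k] L')
  have hred : IsReduced (K ⊗[k] L') := by
    have : IsReduced (L' ⊗[k] K) := NormalRing.isReduced_of_isNormalRing _
      (NormGeom.isNormalRing_tensor_of_isGeomNormal k K hgK L')
    exact isReduced_of_injective (Algebra.TensorProduct.comm k K L')
      (Algebra.TensorProduct.comm k K L').injective
  have h1 : IsIntegrallyClosed (A ⊗[k] L') := by
    have h2 : IsIntegrallyClosed (L' ⊗[k] A) :=
      NormalRing.isIntegrallyClosed_of_isNormalRing _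
        (NormGeom.isNormalRing_tensor_of_isGeomNormal k A hA L')
    exact IsIntegrallyClosed.of_equiv (Algebra.TensorProduct.comm k L' A).toRingEquiv
  have h2 : IsIntegrallyClosed (K ⊗[k] B') :=
    NormalRing.isIntegrallyClosed_of_isNormalRing _
      (NormSep.isNormalRing_tensor_of_isGeometricallyReduced k K B'
        (NormalRing2.isNormalRing_of_isDomain B'))
  refine ⟨A ⊗[k] B', inferInstance,
    (Algebra.TensorProduct.map (AlgHom.id k A) B'.val).toRingHom, ?_, ?_, ?_⟩
  · exact NormalTensor.isNormalRing_tensor_of_isNoetherianRing k A K B' L' h1 h2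
  · exact Module.Flat.lTensor_preserves_injective_linearMap (M := A) B'.val.toLinearMap
      Subtype.val_injective
  · intro t ht
    obtain ⟨s, hs⟩ := hFN ht
    refine ⟨(Submodule.inclusion hNB).lTensor A s, ?_⟩
    rw [← hs]
    change (B'.val.toLinearMap.lTensor A) ((Submodule.inclusion hNB).lTensor A s) = _
    rw [← LinearMap.comp_apply, ← LinearMap.lTensor_comp]
    rfl

/-- `A ⊗[k] B` is normal for `A` geometrically normal over `k` and `B` normal. -/
theorem isNormalRing_tensor (k A B : Type u) [Field k] [CommRing A] [CommRing B]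
    [Algebra k A] [Algebra k B] (hA : EGA4.IsGeomNormal k A) (hB : IsNormalRing B) :
    IsNormalRing (A ⊗[k] B) := by
  apply NormSep.isNormalRing_of_forall_localization A (A ⊗[k] B)
  intro p hp
  -- `(A ⊗ B) ⊗_A A_p = A_p ⊗ B`
  let e1 : ((A ⊗[k] B) ⊗[A] Localization.AtPrime p) ≃+* (Localization.AtPrime p ⊗[k] B) :=
    (Algebra.TensorProduct.comm A (A ⊗[k] B) (Localization.AtPrime p)).toRingEquiv.trans
      (Algebra.TensorProduct.cancelBaseChange k A A (Localization.AtPrime p) B).toRingEquiv
  refine NormUnion.isNormalRing_of_ringEquiv e1 ?_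
  have hAp : IsGeomNormal k (Localization.AtPrime p) :=
    isGeomNormal_of_isLocalization k A p.primeCompl _ hA
  have hdA : IsDomain (Localization.AtPrime p) ∧ IsIntegrallyClosed (Localization.AtPrime p) := by
    have h1 : IsNormalRing (k ⊗[k] A) := hA k inferInstance
    have h2 : IsNormalRing A :=
      NormUnion.isNormalRing_of_ringEquiv (Algebra.TensorProduct.lid k A).symm.toRingEquiv h1
    exact h2 p
  obtain ⟨hdA1, hdA2⟩ := hdA
  refine NormUnion.isNormalRing_of_ringEquiv
    (Algebra.TensorProduct.comm k (Localization.AtPrime p) B).toRingEquiv ?_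
  apply NormSep.isNormalRing_of_forall_localization B (B ⊗[k] Localization.AtPrime p)
  intro q hq
  let e2 : ((B ⊗[k] Localization.AtPrime p) ⊗[B] Localization.AtPrime q) ≃+*
      (Localization.AtPrime q ⊗[k] Localization.AtPrime p) :=
    (Algebra.TensorProduct.comm B (B ⊗[k] Localization.AtPrime p) (Localization.AtPrime q)).toRingEquiv.trans
      (Algebra.TensorProduct.cancelBaseChange k B B (Localization.AtPrime q)
        (Localization.AtPrime p)).toRingEquiv
  refine NormUnion.isNormalRing_of_ringEquiv e2 ?_
  obtain ⟨hdB1, hdB2⟩ := hB q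
  refine NormUnion.isNormalRing_of_ringEquiv
    (Algebra.TensorProduct.comm k (Localization.AtPrime q) (Localization.AtPrime p)).toRingEquiv ?_
  exact isNormalRing_tensor_domain k _ _ hAp

end K114.GeomNormTensor
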