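import Mathlib.RingTheory.Spectrum.Prime.Topology

/-!
# Connectedness of the prime spectrum through idempotents
-/

set_option autoImplicit false
universe u

namespace K114.ConnIdem

/-- The spectrum of `R` is connected iff `R` is nontrivial and has only the idempotents `0` and `1`. -/
theorem connectedSpace_iff (R : Type u) [CommRing R] :
    ConnectedSpace (PrimeSpectrum R) ↔
      Nontrivial R ∧ ∀ e : R, e * e = e → e = 0 ∨ e = 1 := by
  rw [connectedSpace_iff_clopen, PrimeSpectrum.nonempty_iff_nontrivial]
  refine and_congr_right fun hR => ?_
  constructor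
  · intro h e he
    have h1 := h (PrimeSpectrum.basicOpen e : Set (PrimeSpectrum R))
      (PrimeSpectrum.isIdempotentElemEquivClopens ⟨e, he⟩).isClopen
    have hinj := (PrimeSpectrum.isIdempotentElemEquivClopens (R := R)).injective
    rcases h1 with h1 | h1
    · left
      have h2 : PrimeSpectrum.isIdempotentElemEquivClopens (R := R) ⟨e, he⟩ =
          PrimeSpectrum.isIdempotentElemEquivClopens ⟨0, IsIdempotentElem.zero⟩ := by
        apply TopologicalSpace.Clopens.ext
        rw [PrimeSpectrum.coe_isIdempotentElemEquivClopens_apply,
          PrimeSpectrum.coe_isIdempotentElemEquivClopens_apply, h1]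
        simp
      exact congrArg Subtype.val (hinj h2)
    · right
      have h2 : PrimeSpectrum.isIdempotentElemEquivClopens (R := R) ⟨e, he⟩ =
          PrimeSpectrum.isIdempotentElemEquivClopens ⟨1, IsIdempotentElem.one⟩ := by
        apply TopologicalSpace.Clopens.ext
        rw [PrimeSpectrum.coe_isIdempotentElemEquivClopens_apply,
          PrimeSpectrum.coe_isIdempotentElemEquivClopens_apply, h1]
        simp
      exact congrArg Subtype.val (hinj h2)
  · intro h s hs
    obtain ⟨e, he, rfl⟩ := PrimeSpectrum.isClopen_iff.1 hs
    rcases h e he with rfl | rfl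
    · left; simp
    · right; simp

end K114.ConnIdem
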