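import Groth.Agent.CurvesB.CplMap
import Groth.Agent.Ega4B.GFTCoreAux
import Mathlib.RingTheory.Smooth.AdicCompletion
import Mathlib.RingTheory.AdicCompletion.Completeness

/-!
# Extending ring maps to adic completions
-/

set_option autoImplicit false
universe u

namespace K114.CplLift

open Groth.Agent.CurvesB

/-- An element of the completion vanishing in `C / J` lies at each level in the image of `J`. -/
theorem evalₐ_mem_map {C : Type*} [CommRing C] (J : Ideal C) (y : AdicCompletion J C)
    (hy : AdicCompletion.evalOneₐ J y = 0) (n : ℕ) :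
    AdicCompletion.evalₐ J n y ∈ J.map (Ideal.Quotient.mk (J ^ n)) := by
  rcases Nat.eq_zero_or_pos n with rfl | hn
  · have : Subsingleton (C ⧸ J ^ 0) := by
      rw [pow_zero, Ideal.one_eq_top]
      exact Ideal.Quotient.subsingleton_iff.mpr rfl
    rw [Subsingleton.elim (AdicCompletion.evalₐ J 0 y) 0]
    exact Ideal.zero_mem _
  · obtain ⟨c, hc⟩ := Ideal.Quotient.mk_surjective (AdicCompletion.evalₐ J n y)
    rw [← hc]
    apply Ideal.mem_map_of_mem
    rw [← Ideal.Quotient.eq_zero_iff_mem, ← hy, ← AdicCompletion.factorₐ_evalₐ_one,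
      ← CplMap.factorPow_evalₐ J hn, ← hc]
    rfl

variable {V A C : Type*} [CommRing V] [CommRing A] [CommRing C] [Algebra V A] [Algebra V C]

/-- The map `A / I ^ n → C / J ^ n` induced by `g : A → Ĉ` with `g I` in the kernel of `Ĉ → C / J`. -/
noncomputable def level (I : Ideal A) (J : Ideal C) (g : A →ₐ[V] AdicCompletion J C)
    (hg : ∀ a ∈ I, AdicCompletion.evalOneₐ J (g a) = 0) (n : ℕ) : A ⧸ I ^ n →ₐ[V] C ⧸ J ^ n :=
  Ideal.Quotient.liftₐ (I ^ n) (((AdicCompletion.evalₐ J n).restrictScalars V).comp g) (by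
    intro a ha
    have h1 : I ≤ (J.map (Ideal.Quotient.mk (J ^ n))).comap
        (((AdicCompletion.evalₐ J n).restrictScalars V).comp g).toRingHom := fun a ha =>
      evalₐ_mem_map J (g a) (hg a ha) n
    have h2 := CplMap.le_comap_pow h1 n ha
    rw [Ideal.mem_comap, ← Ideal.map_pow, Ideal.map_quotient_self] at h2
    exact h2)

theorem level_mk (I : Ideal A) (J : Ideal C) (g : A →ₐ[V] AdicCompletion J C)
    (hg : ∀ a ∈ I, AdicCompletion.evalOneₐ J (g a) = 0) (n : ℕ) (a : A) :
    level I J g hg n (Ideal.Quotient.mk _ a) = AdicCompletion.evalₐ J n (g a) := rfl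

theorem level_compat (I : Ideal A) (J : Ideal C) (g : A →ₐ[V] AdicCompletion J C)
    (hg : ∀ a ∈ I, AdicCompletion.evalOneₐ J (g a) = 0) {m n : ℕ} (hle : m ≤ n) :
    (Ideal.Quotient.factorₐ V (Ideal.pow_le_pow_right hle)).comp
      ((level I J g hg n).comp ((AdicCompletion.evalₐ I n).restrictScalars V)) =
      (level I J g hg m).comp ((AdicCompletion.evalₐ I m).restrictScalars V) := by
  ext x
  obtain ⟨a, ha⟩ := Ideal.Quotient.mk_surjective (AdicCompletion.evalₐ I n x)
  have h1 : AdicCompletion.evalₐ I m x = Ideal.Quotient.mk (I ^ m) a := by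
    rw [← CplMap.factorPow_evalₐ I hle, ← ha]
    rfl
  change Ideal.Quotient.factorPow J hle (level I J g hg n (AdicCompletion.evalₐ I n x)) =
    level I J g hg m (AdicCompletion.evalₐ I m x)
  rw [← ha, h1, level_mk, level_mk, CplMap.factorPow_evalₐ]

/-- The extension of `g : A → Ĉ` to the completion of `A`. -/
noncomputable def extend (I : Ideal A) (J : Ideal C) (g : A →ₐ[V] AdicCompletion J C)
    (hg : ∀ a ∈ I, AdicCompletion.evalOneₐ J (g a) = 0) :
    AdicCompletion I A →ₐ[V] AdicCompletion J C :=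
  AdicCompletion.liftAlgHom J
    (fun n => (level I J g hg n).comp ((AdicCompletion.evalₐ I n).restrictScalars V))
    (level_compat I J g hg)

theorem evalₐ_extend (I : Ideal A) (J : Ideal C) (g : A →ₐ[V] AdicCompletion J C)
    (hg : ∀ a ∈ I, AdicCompletion.evalOneₐ J (g a) = 0) (n : ℕ) (x : AdicCompletion I A) :
    AdicCompletion.evalₐ J n (extend I J g hg x) =
      level I J g hg n (AdicCompletion.evalₐ I n x) :=
  AdicCompletion.evalₐ_liftAlgHom _ _ (level_compat I J g hg) _ _

theorem extend_algebraMap (I : Ideal A) (J : Ideal C) (g : A →ₐ[V] AdicCompletion J C)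
    (hg : ∀ a ∈ I, AdicCompletion.evalOneₐ J (g a) = 0) (a : A) :
    extend I J g hg (algebraMap A _ a) = g a := by
  apply AdicCompletion.ext_evalₐ
  intro n
  rw [evalₐ_extend]
  exact level_mk I J g hg n a

/-- `extend` modulo `J`. -/
theorem evalOneₐ_extend (I : Ideal A) (J : Ideal C) (g : A →ₐ[V] AdicCompletion J C)
    (hg : ∀ a ∈ I, AdicCompletion.evalOneₐ J (g a) = 0) (φ₀ : A ⧸ I →+* C ⧸ J)
    (hφ₀ : ∀ a, AdicCompletion.evalOneₐ J (g a) = φ₀ (Ideal.Quotient.mk I a))
    (x : AdicCompletion I A) :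
    AdicCompletion.evalOneₐ J (extend I J g hg x) = φ₀ (AdicCompletion.evalOneₐ I x) := by
  obtain ⟨a, ha⟩ := Ideal.Quotient.mk_surjective (AdicCompletion.evalₐ I 1 x)
  rw [← AdicCompletion.factorₐ_evalₐ_one, evalₐ_extend, ← AdicCompletion.factorₐ_evalₐ_one, ← ha,
    level_mk, AdicCompletion.factorₐ_evalₐ_one, hφ₀]
  rfl

/-- A ring map from a complete ring to a complete ring, finite modulo the ideal of definition, is
finite. -/
theorem finite_of_finite_quotient {A' C' : Type*} [CommRing A'] [CommRing C'] [Algebra A' C']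
    (I : Ideal A') [IsPrecomplete I A'] [IsHausdorff (I.map (algebraMap A' C')) C']
    (h : Module.Finite A' (C' ⧸ I.map (algebraMap A' C'))) : Module.Finite A' C' := by
  have h1 : IsHausdorff I C' := by
    refine ⟨fun x hx => ?_⟩
    apply IsHausdorff.haus (I := I.map (algebraMap A' C')) inferInstance x
    intro n
    have h2 := hx n
    rw [SModEq.zero] at h2 ⊢
    rw [Ideal.smul_top_eq_map] at h2
    rw [← Ideal.map_pow, smul_eq_mul, Ideal.mul_top]
    exact h2
  have h2 : Module.Finite A' (C' ⧸ (I • ⊤ : Submodule A' C')) := by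
    have e : (C' ⧸ I.map (algebraMap A' C')) ≃ₗ[A'] (C' ⧸ (I • ⊤ : Submodule A' C')) := by
      exact (Submodule.Quotient.restrictScalarsEquiv A' (I.map (algebraMap A' C'))).symm.trans
        (Submodule.quotEquivOfEq _ _ (Ideal.smul_top_eq_map I).symm)
    exact Module.Finite.equiv e
  exact Groth.Agent.Ega4B.GFTCoreAux.finite_of_quotient I

end K114.CplLift
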