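import Mathlib.RingTheory.RegularLocalRing.Defs
import Mathlib.RingTheory.DiscreteValuationRing.TFAE
import Mathlib.RingTheory.KrullDimension.Basic
import Mathlib.RingTheory.Ideal.GoingUp
import Mathlib.RingTheory.Ideal.Height

/-!
# Normal local rings of dimension at most one
-/

set_option autoImplicit false
universe u

namespace K114.DimOne

/-- Noetherian local integrally closed domains of dimension at most one are regular. -/
theorem isRegular_of_normal (R : Type*) [CommRing R] [IsLocalRing R] [IsNoetherianRing R] [IsDomain R]
    [IsIntegrallyClosed R] (hd : ringKrullDim R ≤ 1) : IsRegularLocalRing R := by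
  have h1 : IsPrincipalIdealRing R := by
    have hT : (IsIntegrallyClosed R ∧ ∀ P : Ideal R, P ≠ ⊥ → P.IsPrime → P = IsLocalRing.maximalIdeal R) ↔
        IsPrincipalIdealRing R := (tfae_of_isNoetherianRing_of_isLocalRing_of_isDomain R).out 3 0
    refine hT.mp ⟨inferInstance, ?_⟩
    intro P hP hPp
    have : Ring.KrullDimLE 1 R := Ring.krullDimLE_iff.mpr hd
    have h2 := Ring.krullDimLE_one_iff_of_isPrime_bot.mp this P hP hPp
    exact IsLocalRing.eq_maximalIdeal h2
  infer_instance

theorem ringKrullDim_le_of_isIntegral {R A : Type*} [CommRing R] [CommRing A] [Algebra R A]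
    [Algebra.IsIntegral R A] : ringKrullDim A ≤ ringKrullDim R := by
  refine Order.krullDim_le_of_strictMono (PrimeSpectrum.comap (algebraMap R A)) ?_
  intro p q hpq
  exact Ideal.IsIntegral.comap_lt_comap hpq

end K114.DimOne
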