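import Groth.Agent.Hensel.EtaleLiftQuot
import Mathlib.RingTheory.TensorProduct.Quotient
import Mathlib.RingTheory.Etale.Basic
import Mathlib.RingTheory.Smooth.Basic
import Mathlib.RingTheory.Localization.BaseChange
import Mathlib.RingTheory.Localization.Integral

/-!
# Lifting finite étale algebras over étale neighbourhoods
-/

set_option autoImplicit false
universe u

namespace K114.FinEtLift

open TensorProduct

/-- Transport of a quotient presentation along a map which is an isomorphism modulo `J`. -/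
theorem exists_quotient_map {R S T : Type*} [CommRing R] [CommRing S] [CommRing T] (J : Ideal R)
    (f : R →+* S) (hs : Function.Surjective ((Ideal.Quotient.mk (J.map f)).comp f))
    (hk : RingHom.ker ((Ideal.Quotient.mk (J.map f)).comp f) = J) (π : R →+* T)
    (hπ : Function.Surjective π) (hπk : RingHom.ker π = J) :
    ∃ π' : S →+* T, Function.Surjective π' ∧ RingHom.ker π' = J.map f ∧ π'.comp f = π := by
  let ρ : S ⧸ J.map f →+* T := RingHom.liftOfSurjective _ hs ⟨π, (hk.trans hπk.symm).le⟩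
  have hρ : ∀ r, ρ (Ideal.Quotient.mk (J.map f) (f r)) = π r := fun r =>
    RingHom.liftOfRightInverse_comp_apply _ _ (Function.rightInverse_surjInv hs)
      ⟨π, (hk.trans hπk.symm).le⟩ r
  refine ⟨ρ.comp (Ideal.Quotient.mk _), ?_, ?_, RingHom.ext hρ⟩
  · intro t
    obtain ⟨r, rfl⟩ := hπ t
    exact ⟨f r, hρ r⟩
  · ext x
    rw [RingHom.mem_ker, RingHom.comp_apply]
    constructor
    · intro hx
      obtain ⟨r, hr⟩ := hs (Ideal.Quotient.mk _ x)
      rw [← hr] at hx
      have h1 : π r = 0 := by rw [← hρ r]; exact hx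
      have h2 : r ∈ J := by rw [← hπk]; exact h1
      have h3 : r ∈ RingHom.ker ((Ideal.Quotient.mk (J.map f)).comp f) := by rw [hk]; exact h2
      rw [RingHom.mem_ker] at h3
      rw [← Ideal.Quotient.eq_zero_iff_mem, ← hr, h3]
    · intro hx
      rw [Ideal.Quotient.eq_zero_iff_mem.mpr hx, map_zero]

/-- The base change to `V / m` computed by a surjection with kernel `m A`. -/
theorem exists_equiv {V : Type*} [CommRing V] (m : Ideal V) {A A₀ : Type*} [CommRing A] [Algebra V A]
    [CommRing A₀] [Algebra (V ⧸ m) A₀] (π : A →+* A₀)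
    (hπV : ∀ v, π (algebraMap V A v) = algebraMap (V ⧸ m) A₀ (Ideal.Quotient.mk m v))
    (hπ : Function.Surjective π) (hk : RingHom.ker π = m.map (algebraMap V A)) :
    ∃ e : ((V ⧸ m) ⊗[V] A) ≃ₐ[V ⧸ m] A₀, ∀ a, e (1 ⊗ₜ a) = π a := by
  let e₁ : (A ⧸ m.map (algebraMap V A)) ≃+* A₀ :=
    (Ideal.quotEquivOfEq hk.symm).trans (RingHom.quotientKerEquivOfSurjective hπ)
  have he₁ : ∀ a, e₁ (Ideal.Quotient.mk _ a) = π a := fun a => rfl
  let e₂ : (A ⧸ m.map (algebraMap V A)) ≃ₐ[V ⧸ m] A₀ := AlgEquiv.ofRingEquiv (f := e₁) (by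
    intro x
    obtain ⟨v, rfl⟩ := Ideal.Quotient.mk_surjective x
    change e₁ (Ideal.Quotient.mk _ (algebraMap V A v)) = _
    rw [he₁, hπV])
  refine ⟨(Algebra.TensorProduct.quotIdealMapEquivQuotTensor A m).symm.trans e₂, fun a => ?_⟩
  rw [← Algebra.TensorProduct.quotIdealMapEquivQuotTensor_mk A m a]
  change e₂ ((Algebra.TensorProduct.quotIdealMapEquivQuotTensor A m).symm
    ((Algebra.TensorProduct.quotIdealMapEquivQuotTensor A m) _)) = _
  rw [AlgEquiv.symm_apply_apply]
  rfl

/-- Existence of lifts of a finite étale algebra over a smooth algebra, granted the existence of a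
smooth lift (`hlift`) and the existence of finite étale neighbourhoods (`hnbhd`). -/
theorem main (V : Type u) [CommRing V] (m : Ideal V) (A₀ : Type u) [CommRing A₀]
    [Algebra (V ⧸ m) A₀]
    (hlift : ∃ (A : Type u) (_ : CommRing A) (_ : Algebra V A), Algebra.Smooth V A ∧
      Nonempty ((A ⧸ m.map (algebraMap V A)) ≃ₐ[V ⧸ m] A₀))
    (hnbhd : ∀ (A : Type u) [CommRing A] (I : Ideal A) (B : Type u) [CommRing B] [Algebra A B]
      [Algebra.FiniteType A B] (_ : Module.Finite A (B ⧸ Ideal.map (algebraMap A B) I)),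
      ∃ (A' : Type u) (_ : CommRing A') (_ : Algebra A A') (_ : Algebra.Etale A A')
      (C : Type u) (_ : CommRing C) (_ : Algebra A C) (_ : Algebra A' C) (_ : Algebra B C)
      (_ : IsScalarTower A A' C) (_ : IsScalarTower A B C),
      Function.Surjective ((Ideal.Quotient.mk (Ideal.map (algebraMap A A') I)).comp (algebraMap A A')) ∧
      RingHom.ker ((Ideal.Quotient.mk (Ideal.map (algebraMap A A') I)).comp (algebraMap A A')) = I ∧
      Algebra.Etale B C ∧ Module.Finite A' C ∧
      Function.Surjective ((Ideal.Quotient.mk (Ideal.map (algebraMap A C) I)).comp (algebraMap B C)) ∧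
      RingHom.ker ((Ideal.Quotient.mk (Ideal.map (algebraMap A C) I)).comp (algebraMap B C)) =
        Ideal.map (algebraMap A B) I)
    (B₀ : Type u) [CommRing B₀] [Algebra A₀ B₀] [Algebra (V ⧸ m) B₀]
    [IsScalarTower (V ⧸ m) A₀ B₀] [Module.Finite A₀ B₀] [Algebra.Etale A₀ B₀] :
    ∃ (A : Type u) (_ : CommRing A) (_ : Algebra V A) (_ : Algebra.Smooth V A)
      (e : (V ⧸ m) ⊗[V] A ≃ₐ[V ⧸ m] A₀)
      (B : Type u) (_ : CommRing B) (_ : Algebra A B) (_ : Algebra V B) (_ : IsScalarTower V A B)
      (e' : (V ⧸ m) ⊗[V] B ≃ₐ[V ⧸ m] B₀),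
      Module.Finite A B ∧ Algebra.Etale A B ∧ Algebra.Smooth V B ∧
      (∀ x : (V ⧸ m) ⊗[V] A,
        e' (Algebra.TensorProduct.map (AlgHom.id (V ⧸ m) (V ⧸ m))
          (IsScalarTower.toAlgHom V A B) x) = algebraMap A₀ B₀ (e x)) := by
  obtain ⟨R, _, _, hRs, ⟨ε⟩⟩ := hlift
  set J := m.map (algebraMap V R) with hJ
  let πR : R →+* A₀ := (ε : (R ⧸ J) →+* A₀).comp (Ideal.Quotient.mk J)
  have hπR : Function.Surjective πR := ε.surjective.comp Ideal.Quotient.mk_surjective
  have hkR : RingHom.ker πR = J := by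
    ext x
    change ε (Ideal.Quotient.mk J x) = 0 ↔ _
    rw [map_eq_zero_iff ε ε.injective, Ideal.Quotient.eq_zero_iff_mem]
  have hπRV : ∀ v, πR (algebraMap V R v) = algebraMap (V ⧸ m) A₀ (Ideal.Quotient.mk m v) := by
    intro v
    exact ε.commutes (Ideal.Quotient.mk m v)
  -- `B₀` as an étale algebra over `R / J`
  let _ : Algebra R A₀ := πR.toAlgebra
  let _ : Algebra R B₀ := ((algebraMap A₀ B₀).comp πR).toAlgebra
  have : IsScalarTower R A₀ B₀ := IsScalarTower.of_algebraMap_eq fun x => rfl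
  obtain ⟨E, _, _, hE, ⟨φ⟩⟩ := Groth.Agent.Hensel.EtaleLiftQuot.exists_etale_lift
    (A := R) (A' := A₀) hπR B₀
  let ψ : (R ⧸ J) ≃ₐ[R] A₀ := AlgEquiv.ofRingEquiv (f := ε.toRingEquiv) (fun x => rfl)
  let χ : (E ⧸ J.map (algebraMap R E)) ≃+* B₀ :=
    (Algebra.TensorProduct.quotIdealMapEquivQuotTensor E J).toRingEquiv.trans
      ((Algebra.TensorProduct.congr ψ (AlgEquiv.refl : E ≃ₐ[R] E)).toRingEquiv.trans
        φ.toRingEquiv)
  have hχ : ∀ x, χ (Ideal.Quotient.mk _ x) = φ (1 ⊗ₜ x) := by
    intro x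
    change φ ((Algebra.TensorProduct.congr ψ (AlgEquiv.refl : E ≃ₐ[R] E))
      ((Algebra.TensorProduct.quotIdealMapEquivQuotTensor E J) (Ideal.Quotient.mk _ x))) = _
    have h1 := Algebra.TensorProduct.quotIdealMapEquivQuotTensor_mk E J x
    rw [show (Algebra.TensorProduct.quotIdealMapEquivQuotTensor E J) (Ideal.Quotient.mk _ x) =
      (1 : R ⧸ J) ⊗ₜ[R] x from h1]
    congr 1
    exact (congrArg (fun y => y ⊗ₜ[R] x) (map_one ψ))
  let πE : E →+* B₀ := (χ : _ →+* B₀).comp (Ideal.Quotient.mk (J.map (algebraMap R E)))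
  have hπE : Function.Surjective πE := χ.surjective.comp Ideal.Quotient.mk_surjective
  have hkE : RingHom.ker πE = J.map (algebraMap R E) := by
    ext x
    change χ (Ideal.Quotient.mk _ x) = 0 ↔ _
    rw [map_eq_zero_iff χ χ.injective, Ideal.Quotient.eq_zero_iff_mem]
  have hπER : ∀ r, πE (algebraMap R E r) = algebraMap A₀ B₀ (πR r) := by
    intro r
    change χ (Ideal.Quotient.mk _ (algebraMap R E r)) = _
    rw [hχ]
    have h1 : (1 : A₀) ⊗ₜ[R] (algebraMap R E r) = algebraMap A₀ (A₀ ⊗[R] E) (πR r) := by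
      rw [Algebra.algebraMap_eq_smul_one r, ← TensorProduct.smul_tmul, Algebra.smul_def, mul_one]
      rfl
    rw [h1, AlgEquiv.commutes]
  -- `E / J E` is finite over `R`
  have hfin : Module.Finite R (E ⧸ J.map (algebraMap R E)) := by
    have h1 : (algebraMap R (E ⧸ J.map (algebraMap R E))) =
        (χ.symm : B₀ →+* _).comp ((algebraMap A₀ B₀).comp πR) := by
      refine RingHom.ext fun r => ?_
      change _ = χ.symm (algebraMap A₀ B₀ (πR r))
      rw [eq_comm, RingEquiv.symm_apply_eq]
      exact (hπER r).symm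
    have h2 : (algebraMap R (E ⧸ J.map (algebraMap R E))).Finite := by
      rw [h1]
      refine RingHom.Finite.comp (RingHom.Finite.of_surjective _ χ.symm.surjective)
        (RingHom.Finite.comp ?_ (RingHom.Finite.of_surjective _ hπR))
      rw [RingHom.finite_algebraMap]
      infer_instance
    rwa [RingHom.finite_algebraMap] at h2
  obtain ⟨A, _, _, hA, B, _, _, _, _, _, _, hs1, hk1, hEB, hfinB, hs2, hk2⟩ := hnbhd R J E hfin
  -- the lifts of the projections
  obtain ⟨πA, hπA, hkA, hπAR⟩ := exists_quotient_map J (algebraMap R A) hs1 hk1 πR hπR hkR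
  have hJB : (J.map (algebraMap R E)).map (algebraMap E B) = J.map (algebraMap R B) := by
    rw [Ideal.map_map, ← IsScalarTower.algebraMap_eq]
  obtain ⟨πB, hπB, hkB, hπBE⟩ := exists_quotient_map (J.map (algebraMap R E)) (algebraMap E B)
    (by rw [hJB]; exact hs2) (by rw [hJB]; exact hk2) πE hπE hkE
  rw [hJB] at hkB
  have hcomm : ∀ a : A, πB (algebraMap A B a) = algebraMap A₀ B₀ (πA a) := by
    intro a
    obtain ⟨r, hr⟩ := hs1 (Ideal.Quotient.mk _ a)
    have h1 : algebraMap R A r - a ∈ J.map (algebraMap R A) := Ideal.Quotient.eq.mp hr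
    have h2 : πA a = πR r := by
      rw [← hπAR]
      have h3 : algebraMap R A r - a ∈ RingHom.ker πA := by rw [hkA]; exact h1
      rw [RingHom.mem_ker, map_sub, sub_eq_zero] at h3
      exact h3.symm
    have h4 : algebraMap R B r - algebraMap A B a ∈ J.map (algebraMap R B) := by
      have h5 := Ideal.mem_map_of_mem (algebraMap A B) h1
      rwa [Ideal.map_map, ← IsScalarTower.algebraMap_eq, map_sub,
        ← IsScalarTower.algebraMap_apply] at h5
    have h6 : πB (algebraMap A B a) = πB (algebraMap R B r) := by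
      have h7 : algebraMap R B r - algebraMap A B a ∈ RingHom.ker πB := by rw [hkB]; exact h4
      rw [RingHom.mem_ker, map_sub, sub_eq_zero] at h7
      exact h7.symm
    rw [h6, h2, ← hπER, IsScalarTower.algebraMap_apply R E B]
    exact DFunLike.congr_fun hπBE _
  -- the `V`-algebra structures
  let _ : Algebra V A := ((algebraMap R A).comp (algebraMap V R)).toAlgebra
  have hVRA : IsScalarTower V R A := IsScalarTower.of_algebraMap_eq fun x => rfl
  let _ : Algebra V B := ((algebraMap R B).comp (algebraMap V R)).toAlgebra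
  have hVRB : IsScalarTower V R B := IsScalarTower.of_algebraMap_eq fun x => rfl
  have hVAB : IsScalarTower V A B := IsScalarTower.of_algebraMap_eq fun x => by
    exact IsScalarTower.algebraMap_apply R A B (algebraMap V R x)
  have hRB : Algebra.Etale R B := Algebra.Etale.comp R E B
  have hAB : Algebra.Etale A B := Algebra.Etale.of_restrictScalars R A B
  have hVA : Algebra.Smooth V A := Algebra.Smooth.comp V R A
  have hVB : Algebra.Smooth V B := Algebra.Smooth.comp V R B
  obtain ⟨e, he⟩ := exists_equiv m πA (A₀ := A₀) (fun v => by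
    rw [← hπRV, ← hπAR]; rfl) hπA (by
    rw [hkA, hJ, Ideal.map_map, ← IsScalarTower.algebraMap_eq])
  obtain ⟨e', he'⟩ := exists_equiv m πB (A₀ := B₀) (fun v => by
    rw [IsScalarTower.algebraMap_apply V A B, hcomm, IsScalarTower.algebraMap_apply (V ⧸ m) A₀ B₀,
      ← hπRV, ← hπAR]
    rfl) hπB (by
    rw [hkB, hJ, Ideal.map_map, ← IsScalarTower.algebraMap_eq])
  refine ⟨A, inferInstance, inferInstance, hVA, e, B, inferInstance, inferInstance, inferInstance,
    hVAB, e', hfinB, hAB, hVB, ?_⟩
  intro x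
  induction x using TensorProduct.induction_on with
  | zero => simp
  | add x y hx hy => rw [map_add, map_add, map_add, map_add, hx, hy]
  | tmul c a =>
    have h1 : c ⊗ₜ[V] a = c • ((1 : V ⧸ m) ⊗ₜ[V] a) := by
      rw [TensorProduct.smul_tmul', smul_eq_mul, mul_one]
    rw [h1, map_smul, map_smul, map_smul, Algebra.TensorProduct.map_tmul, he, map_one]
    rw [show e' ((1 : V ⧸ m) ⊗ₜ[V] (IsScalarTower.toAlgHom V A B) a) = πB (algebraMap A B a) from
      he' _, hcomm, Algebra.smul_def, Algebra.smul_def, map_mul,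
      ← IsScalarTower.algebraMap_apply]

/-- Étale algebras localize on the base. -/
theorem etale_localization (A B : Type*) [CommRing A] [CommRing B] [Algebra A B] (T : Submonoid A)
    [Algebra.Etale A B] :
    Algebra.Etale (Localization T) (Localization (Algebra.algebraMapSubmonoid B T)) := by
  have h1 : Algebra.IsPushout A B (Localization T)
      (Localization (Algebra.algebraMapSubmonoid B T)) :=
    Algebra.isPushout_of_isLocalization T (Localization T) B _
  have h2 : Algebra.IsPushout A (Localization T) B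
      (Localization (Algebra.algebraMapSubmonoid B T)) := h1.symm
  exact Algebra.Etale.of_equiv (Algebra.IsPushout.equiv A (Localization T) B _)

end K114.FinEtLift
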