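import Groth.Agent.S2627
import Groth.Agent.CalgA.NagataExt
import Mathlib.RingTheory.Localization.Integral
import Mathlib.RingTheory.Localization.LocalizationLocalization
import Mathlib.RingTheory.Ideal.GoingUp

/-!
# Generic normality and finiteness of integral closures
-/

set_option autoImplicit false
universe u

namespace K114.NagGen

/-- `B'_f` is integrally closed iff every element of the fraction field integral over `B'` is
multiplied into `B'` by a power of `f`. -/
theorem isIntegrallyClosed_away_iff (B' K' : Type*) [CommRing B'] [IsDomain B'] [Field K']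
    [Algebra B' K'] [IsFractionRing B' K'] (f : B') (hf : f ≠ 0) :
    IsIntegrallyClosed (Localization.Away f) ↔ ∀ x : K', IsIntegral B' x →
      ∃ (n : ℕ) (b : B'), algebraMap B' K' f ^ n * x = algebraMap B' K' b := by
  have hinj := IsFractionRing.injective B' K'
  have hfK : algebraMap B' K' f ≠ 0 := by rwa [map_ne_zero_iff _ hinj]
  let φ : Localization.Away f →+* K' := IsLocalization.Away.lift f (g := algebraMap B' K')
    (isUnit_iff_ne_zero.mpr hfK)
  letI : Algebra (Localization.Away f) K' := φ.toAlgebra
  have : IsScalarTower B' (Localization.Away f) K' := IsScalarTower.of_algebraMap_eq fun x =>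
    (IsLocalization.Away.lift_eq f (isUnit_iff_ne_zero.mpr hfK) x).symm
  have : IsDomain (Localization.Away f) := IsLocalization.isDomain_localization
    (powers_le_nonZeroDivisors_of_noZeroDivisors hf)
  have : IsFractionRing (Localization.Away f) K' :=
    IsFractionRing.isFractionRing_of_isDomain_of_isLocalization (Submonoid.powers f) _ _
  rw [isIntegrallyClosed_iff K']
  constructor
  · intro h x hx
    obtain ⟨y, rfl⟩ := h (hx.tower_top (A := Localization.Away f))
    obtain ⟨⟨b, ⟨_, n, rfl⟩⟩, hb⟩ := IsLocalization.surj (Submonoid.powers f) y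
    refine ⟨n, b, ?_⟩
    have := congrArg (algebraMap (Localization.Away f) K') hb
    rw [map_mul, ← IsScalarTower.algebraMap_apply, ← IsScalarTower.algebraMap_apply] at this
    rw [mul_comm, ← this]
    simp
  · intro h x hx
    obtain ⟨⟨m, hmk⟩, hm⟩ :=
      IsIntegral.exists_multiple_integral_of_isLocalization (Submonoid.powers f) x hx
    obtain ⟨k, rfl⟩ := hmk
    have hm' : IsIntegral B' (algebraMap B' K' f ^ k * x) := by
      have h0 : IsIntegral B' ((f ^ k) • x) := hm
      rwa [Algebra.smul_def, map_pow] at h0
    obtain ⟨n, b, hb⟩ := h _ hm'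
    have hmem : f ^ (n + k) ∈ Submonoid.powers f := ⟨_, rfl⟩
    refine ⟨IsLocalization.mk' _ b (⟨f ^ (n + k), hmem⟩ : Submonoid.powers f), ?_⟩
    have h1 : algebraMap (Localization.Away f) K' (IsLocalization.mk' _ b
        (⟨f ^ (n + k), hmem⟩ : Submonoid.powers f)) * algebraMap B' K' f ^ (n + k) =
        algebraMap B' K' b := by
      have h2 := IsLocalization.mk'_spec (Localization.Away f) b
        (⟨f ^ (n + k), hmem⟩ : Submonoid.powers f)
      have h3 := congrArg (algebraMap (Localization.Away f) K') h2
      rw [map_mul, ← IsScalarTower.algebraMap_apply, ← IsScalarTower.algebraMap_apply] at h3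
      rw [← h3, map_pow]
    have h2 : x * algebraMap B' K' f ^ (n + k) = algebraMap B' K' b := by
      rw [← hb]
      ring
    exact mul_right_cancel₀ (pow_ne_zero _ hfK) (h1.trans h2.symm)

/-- A module whose localization is finite is "finite up to `S`". -/
theorem exists_fg_of_finite {A T M N : Type*} [CommRing A] [CommRing T] [Algebra A T]
    (S : Submonoid A) [IsLocalization S T] [AddCommGroup M] [Module A M] [AddCommGroup N]
    [Module A N] [Module T N] [IsScalarTower A T N] (g : M →ₗ[A] N) [IsLocalizedModule S g]
    (h : Module.Finite T N) :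
    ∃ P : Submodule A M, P.FG ∧ ∀ m : M, ∃ s ∈ S, s • m ∈ P := by
  classical
  obtain ⟨t, ht⟩ := h.fg_top
  refine ⟨Submodule.span A (IsLocalizedModule.finsetIntegerMultiple S g t), ⟨_, rfl⟩, fun m => ?_⟩
  have hm : g m ∈ Submodule.span T (t : Set N) := by
    rw [ht]; trivial
  obtain ⟨s, hs⟩ := multiple_mem_span_of_mem_localization_span S T _ _ hm
  have hs' : g (s • m) ∈ Submodule.span A (t : Set N) := by
    rw [Submonoid.smul_def, LinearMap.map_smul]
    exact hs
  obtain ⟨s', hs'⟩ := IsLocalizedModule.smul_mem_finsetIntegerMultiple_span S g _ _ hs'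
  refine ⟨s' * s, mul_mem s'.2 s.2, ?_⟩
  rw [mul_smul]
  exact hs'

/-- A module "finite up to `S`" has finite localization. -/
theorem finite_localizedModule_of_fg {A M : Type*} [CommRing A] (S : Submonoid A)
    [AddCommGroup M] [Module A M] (P : Submodule A M) (hP : P.FG)
    (h : ∀ m : M, ∃ s ∈ S, s • m ∈ P) :
    Module.Finite (Localization S) (LocalizedModule S M) := by
  classical
  obtain ⟨t, rfl⟩ := hP
  refine ⟨⟨t.image (LocalizedModule.mkLinearMap S M), ?_⟩⟩
  rw [eq_top_iff]
  rintro x -
  induction x using LocalizedModule.induction_on with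
  | h m s =>
    obtain ⟨s', hs', hm⟩ := h m
    have h1 : LocalizedModule.mkLinearMap S M (s' • m) ∈
        Submodule.span (Localization S) (t.image (LocalizedModule.mkLinearMap S M) : Set _) := by
      have h2 : LocalizedModule.mkLinearMap S M (s' • m) ∈
          (Submodule.span A (t : Set M)).map (LocalizedModule.mkLinearMap S M) := ⟨_, hm, rfl⟩
      rw [Submodule.map_span] at h2
      rw [Finset.coe_image]
      exact Submodule.span_subset_span A (Localization S) _ h2
    have h3 : LocalizedModule.mk m s =
        (Localization.mk 1 (s * ⟨s', hs'⟩) : Localization S) •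
          LocalizedModule.mkLinearMap S M (s' • m) := by
      rw [LocalizedModule.mkLinearMap_apply, LocalizedModule.mk_smul_mk, one_smul, mul_one,
        LocalizedModule.mk_eq]
      refine ⟨1, ?_⟩
      simp only [one_smul, Submonoid.smul_def, Submonoid.coe_mul, smul_smul]
    rw [h3]
    exact Submodule.smul_mem _ _ h1

end K114.NagGen
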