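import Groth.Agent.EGA4.K114.NagGen
import Groth.Agent.CalgA.NagataBasic
import Groth.Agent.CalgA.NagataExt
import Mathlib.RingTheory.Localization.Ideal
import Mathlib.RingTheory.DedekindDomain.IntegralClosure

/-!
# Generic normality and finiteness of integral closures, II
-/

set_option autoImplicit false
universe u

namespace K114.NagGen

/-- If the integral closure of `B` in `K'` is finite, then every finite `B`-subalgebra `B'` of `K'`
with fraction field `K'` becomes normal after inverting a nonzero element. -/
theorem exists_isIntegrallyClosed_away (B K' : Type*) [CommRing B] [Field K'] [Algebra B K']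
    (hC : Module.Finite B (integralClosure B K')) (B' : Subalgebra B K') [Module.Finite B B']
    [IsFractionRing B' K'] : ∃ f : B', f ≠ 0 ∧ IsIntegrallyClosed (Localization.Away f) := by
  classical
  obtain ⟨t, ht⟩ := hC.fg_top
  obtain ⟨b, hb⟩ := IsLocalization.exist_integer_multiples_of_finset (nonZeroDivisors B')
    (t.image (fun x : integralClosure B K' => (x : K')))
  refine ⟨b, nonZeroDivisors.ne_zero b.2, ?_⟩
  rw [isIntegrallyClosed_away_iff B' K' _ (nonZeroDivisors.ne_zero b.2)]
  intro x hx
  have hxB : IsIntegral B x := isIntegral_trans x hx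
  refine ⟨1, ?_⟩
  rw [pow_one]
  have key : ∀ c : integralClosure B K', c ∈ Submodule.span B (t : Set (integralClosure B K')) →
      ∃ y : B', algebraMap B' K' b * (c : K') = algebraMap B' K' y := by
    intro c hc
    induction hc using Submodule.span_induction with
    | mem c hc =>
      obtain ⟨y, hy⟩ := hb c (Finset.mem_image_of_mem _ hc)
      refine ⟨y, ?_⟩
      rw [hy, Algebra.smul_def]
    | zero => exact ⟨0, by simp⟩
    | add c d _ _ hc hd =>
      obtain ⟨y, hy⟩ := hc
      obtain ⟨z, hz⟩ := hd
      refine ⟨y + z, ?_⟩
      rw [map_add, ← hy, ← hz, ← mul_add]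
      rfl
    | smul r c _ hc =>
      obtain ⟨y, hy⟩ := hc
      refine ⟨r • y, ?_⟩
      have h1 : algebraMap B' K' (r • y) = r • algebraMap B' K' y := rfl
      rw [h1, ← hy]
      exact mul_smul_comm r (algebraMap B' K' b) (c : K')
  exact key ⟨x, hxB⟩ (by rw [ht]; trivial)

/-- Every finite extension `K'` of the fraction field of `B` is the fraction field of a finite
`B`-subalgebra. -/
theorem exists_finite_subalgebra (B K K' : Type*) [CommRing B] [IsDomain B] [Field K] [Algebra B K]
    [IsFractionRing B K] [Field K'] [Algebra B K'] [Algebra K K'] [IsScalarTower B K K']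
    [FiniteDimensional K K'] :
    ∃ B' : Subalgebra B K', Module.Finite B B' ∧ IsFractionRing B' K' := by
  classical
  obtain ⟨s, hs⟩ := (inferInstance : Module.Finite K K').fg_top
  obtain ⟨y, hy0, hy⟩ := exists_integral_multiples B K s
  have hinj : Function.Injective (algebraMap B K') := by
    rw [IsScalarTower.algebraMap_eq B K K']
    exact (algebraMap K K').injective.comp (IsFractionRing.injective B K)
  refine ⟨Algebra.adjoin B ((s.image (fun x => y • x) : Finset K') : Set K'),
    Algebra.finite_adjoin_of_finite_of_isIntegral (Finset.finite_toSet _) ?_, ?_⟩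
  · intro x hx
    obtain ⟨z, hz, rfl⟩ := Finset.mem_image.mp (Finset.mem_coe.mp hx)
    exact hy z hz
  · refine IsFractionRing.of_field _ K' fun z => ?_
    have key : ∀ z ∈ Submodule.span K (s : Set K'), ∃ (d : B), d ≠ 0 ∧ algebraMap B K' d * z ∈
        Algebra.adjoin B ((s.image (fun x => y • x) : Finset K') : Set K') := by
      intro z hz
      induction hz using Submodule.span_induction with
      | mem z hz =>
        refine ⟨y, hy0, ?_⟩
        rw [← Algebra.smul_def]
        exact Algebra.subset_adjoin (Finset.mem_coe.mpr (Finset.mem_image_of_mem _ hz))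
      | zero => exact ⟨1, one_ne_zero, by simp⟩
      | add z w _ _ hz hw =>
        obtain ⟨d, hd, hdz⟩ := hz
        obtain ⟨e, he, hew⟩ := hw
        refine ⟨d * e, mul_ne_zero hd he, ?_⟩
        have h1 : algebraMap B K' (d * e) * (z + w) =
          algebraMap B K' e * (algebraMap B K' d * z) +
            algebraMap B K' d * (algebraMap B K' e * w) := by rw [map_mul]; ring
        rw [h1]
        exact add_mem (mul_mem (Subalgebra.algebraMap_mem _ e) hdz)
          (mul_mem (Subalgebra.algebraMap_mem _ d) hew)
      | smul r z _ hz =>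
        obtain ⟨d, hd, hdz⟩ := hz
        obtain ⟨a, c, hc, rfl⟩ := IsFractionRing.div_surjective (A := B) r
        have hc0 : c ≠ 0 := nonZeroDivisors.ne_zero hc
        refine ⟨d * c, mul_ne_zero hd hc0, ?_⟩
        have hcK : algebraMap B K' c ≠ 0 := by rwa [map_ne_zero_iff _ hinj]
        have h1 : algebraMap B K' (d * c) * ((algebraMap B K a / algebraMap B K c) • z) =
            algebraMap B K' a * (algebraMap B K' d * z) := by
          rw [Algebra.smul_def, map_div₀, ← IsScalarTower.algebraMap_apply,
            ← IsScalarTower.algebraMap_apply, map_mul]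
          field_simp
        rw [h1]
        exact mul_mem (Subalgebra.algebraMap_mem _ a) hdz
    obtain ⟨d, hd, hdz⟩ := key z (by rw [hs]; trivial)
    refine ⟨⟨_, hdz⟩, algebraMap B _ d, ?_⟩
    have hdK : algebraMap B K' d ≠ 0 := by rwa [map_ne_zero_iff _ hinj]
    rw [eq_div_iff (by exact hdK)]
    change z * algebraMap B K' d = algebraMap B K' d * z
    rw [mul_comm]

/-- If a finite `B`-subalgebra `B'` of `K'` with fraction field `K'` becomes normal after inverting a
nonzero element, the integral closure of `B` in `K'` is "finite up to powers of some nonzero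
element". -/
theorem exists_fg_of_isIntegrallyClosed_away (B K' : Type*) [CommRing B] [IsDomain B]
    [IsNoetherianRing B] [Field K'] [Algebra B K'] (B' : Subalgebra B K')
    [Module.Finite B B'] [IsFractionRing B' K'] (f : B') (hf : f ≠ 0)
    (h : IsIntegrallyClosed (Localization.Away f)) :
    ∃ g : B, g ≠ 0 ∧ ∃ P : Submodule B (integralClosure B K'), P.FG ∧
      ∀ m : integralClosure B K', ∃ s ∈ Submonoid.powers g, s • m ∈ P := by
  rw [isIntegrallyClosed_away_iff B' K' f hf] at h
  have hint : Algebra.IsIntegral B B' := inferInstance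
  obtain ⟨g, hg, hg0⟩ := Submodule.exists_mem_ne_zero_of_ne_bot
    (Ideal.comap_ne_bot_of_integral_mem (R := B) (I := Ideal.span {f}) hf
      (Ideal.mem_span_singleton_self f) (Algebra.IsIntegral.isIntegral f))
  obtain ⟨g', hg'⟩ := Ideal.mem_span_singleton.mp (Ideal.mem_comap.mp hg)
  refine ⟨g, hg0, (Subalgebra.toSubmodule B').comap (integralClosure B K').val.toLinearMap, ?_, ?_⟩
  · have hN : IsNoetherian B (Subalgebra.toSubmodule B') :=
      isNoetherian_of_isNoetherianRing_of_finite B B'
    apply Submodule.fg_of_fg_map_injective (integralClosure B K').val.toLinearMap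
      Subtype.val_injective
    have hle : ((Subalgebra.toSubmodule B').comap (integralClosure B K').val.toLinearMap).map
        (integralClosure B K').val.toLinearMap ≤ Subalgebra.toSubmodule B' :=
      Submodule.map_comap_le _ _
    have h1 := hN.noetherian (((Subalgebra.toSubmodule B').comap
      (integralClosure B K').val.toLinearMap).map
        (integralClosure B K').val.toLinearMap |>.comap (Subalgebra.toSubmodule B').subtype)
    have h2 := h1.map (Subalgebra.toSubmodule B').subtype
    rwa [Submodule.map_comap_subtype, inf_eq_right.mpr hle] at h2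
  · intro m
    obtain ⟨n, b, hb⟩ := h m.1 (m.2.tower_top (A := B'))
    refine ⟨g ^ n, ⟨n, rfl⟩, ?_⟩
    change g ^ n • m.1 ∈ B'
    have h1 : g ^ n • m.1 = algebraMap B' K' (g' ^ n * b) := by
      rw [map_mul, ← hb, Algebra.smul_def, map_pow, map_pow, ← mul_assoc, ← mul_pow,
        IsScalarTower.algebraMap_apply B B' K', hg', map_mul, mul_comm (algebraMap B' K' f)]
    rw [h1]
    exact (g' ^ n * b).2

open Groth.Agent.CalgA in
/-- If a localization `T` of `B` is N-2 then the integral closure of `B` in a finite extension of its
fraction field is "finite up to denominators". -/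
theorem exists_fg_of_isN2_localization (B T K K' : Type u) [CommRing B] [IsDomain B] [CommRing T]
    [IsDomain T] [Algebra B T] (M : Submonoid B) (hM : M ≤ nonZeroDivisors B) [IsLocalization M T]
    (hT : CAlg.IsN2 T) [Field K] [Algebra B K] [IsFractionRing B K] [Field K'] [Algebra B K']
    [Algebra K K'] [IsScalarTower B K K'] [FiniteDimensional K K'] :
    ∃ P : Submodule B (integralClosure B K'), P.FG ∧
      ∀ m : integralClosure B K', ∃ s ∈ M, s • m ∈ P := by
  have hunit : ∀ y : M, IsUnit (algebraMap B K y) := fun y => by
    rw [isUnit_iff_ne_zero, map_ne_zero_iff _ (IsFractionRing.injective B K)]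
    exact nonZeroDivisors.ne_zero (hM y.2)
  let φ : T →+* K := IsLocalization.lift (M := M) (g := algebraMap B K) hunit
  let _ : Algebra T K := φ.toAlgebra
  have : IsScalarTower B T K := IsScalarTower.of_algebraMap_eq fun x =>
    (IsLocalization.lift_eq hunit x).symm
  have hfr : IsFractionRing T K :=
    IsFractionRing.isFractionRing_of_isDomain_of_isLocalization M T K
  let _ : Algebra T K' := ((algebraMap K K').comp (algebraMap T K)).toAlgebra
  have : IsScalarTower T K K' := IsScalarTower.of_algebraMap_eq fun x => rfl
  have : IsScalarTower B T K' := IsScalarTower.of_algebraMap_eq fun x => by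
    rw [IsScalarTower.algebraMap_apply T K K', ← IsScalarTower.algebraMap_apply B T K,
      ← IsScalarTower.algebraMap_apply B K K']
  have h1 : Module.Finite T (integralClosure T K') := NagataBasic.finite_of_isN2 hT K K'
  have h2 : IsLocalizedModule M (NagataExt.icMap B T K') :=
    NagataExt.isLocalizedModule_icMap B T K' M
  exact exists_fg_of_finite M (NagataExt.icMap B T K') h1

/-- The same for the quotients of a ring by a prime ideal. -/
theorem exists_fg_of_isN2_quotient_localization {A : Type u} [CommRing A] (p m : Ideal A) [p.IsPrime]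
    [m.IsPrime] (hpm : p ≤ m) (h : ∀ (P : Ideal (Localization.AtPrime m)) [P.IsPrime],
      CAlg.IsN2 (Localization.AtPrime m ⧸ P)) (K' : Type u) [Field K'] [Algebra (A ⧸ p) K']
    [Algebra (FractionRing (A ⧸ p)) K'] [IsScalarTower (A ⧸ p) (FractionRing (A ⧸ p)) K']
    [FiniteDimensional (FractionRing (A ⧸ p)) K'] :
    ∃ P : Submodule (A ⧸ p) (integralClosure (A ⧸ p) K'), P.FG ∧
      ∀ x : integralClosure (A ⧸ p) K',
        ∃ s ∈ Algebra.algebraMapSubmonoid (A ⧸ p) m.primeCompl, s • x ∈ P := by
  have hdisj : Disjoint (m.primeCompl : Set A) p := by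
    rw [Set.disjoint_left]
    intro x hx hxp
    exact hx (hpm hxp)
  have hP : (p.map (algebraMap A (Localization.AtPrime m))).IsPrime :=
    IsLocalization.isPrime_of_isPrime_disjoint m.primeCompl _ p inferInstance hdisj
  have hM : Algebra.algebraMapSubmonoid (A ⧸ p) m.primeCompl ≤ nonZeroDivisors (A ⧸ p) := by
    rintro _ ⟨x, hx, rfl⟩
    rw [mem_nonZeroDivisors_iff_ne_zero]
    intro h0
    exact hx (hpm (Ideal.Quotient.eq_zero_iff_mem.mp h0))
  exact exists_fg_of_isN2_localization (A ⧸ p)
    (Localization.AtPrime m ⧸ p.map (algebraMap A (Localization.AtPrime m)))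
    (FractionRing (A ⧸ p)) K' _ hM (h _)

end K114.NagGen
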