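import Groth.Prelude.Def_EGA4b
import Groth.Prelude.Def_AssocGrMod
import Mathlib.RingTheory.Flat.Basic

/-!
# Normal flatness and flatness of the associated graded module
-/

set_option autoImplicit false
universe u

noncomputable section

namespace K114.NormFlatGr

open AssocGr EGA4 DirectSum

variable {A : Type u} [CommRing A] (I : Ideal A) (M : Type u) [AddCommGroup M] [Module A M]

/-- The pieces in the definition of normal flatness. -/
abbrev Q (n : ℕ) : Type u :=
  ↥(I ^ n • (⊤ : Submodule A M)) ⧸ (I • (⊤ : Submodule A ↥(I ^ n • (⊤ : Submodule A M))))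

/-- The coefficient map. -/
def coeffL (n : ℕ) : ReesM (Rees.powFilt I M) →ₗ[A] ↥(I ^ n • (⊤ : Submodule A M)) where
  toFun y := ⟨ReesM.coeff (Rees.powFilt I M) y n, ReesM.coeff_mem (Rees.powFilt I M) y n⟩
  map_add' y y' := Subtype.ext (ReesM.coeff_add (Rees.powFilt I M) y y' n)
  map_smul' a y := Subtype.ext (ReesM.coeff_smul_base (Rees.powFilt I M) a y n)

theorem coeff_monom (n : ℕ) (x : ↥(I ^ n • (⊤ : Submodule A M))) (m : ℕ) :
    ReesM.coeff (Rees.powFilt I M) (monomM (Rees.powFilt I M) n x) m =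
      if n = m then (x : M) else 0 := ReesM.coeff_monomM (Rees.powFilt I M) n x m

/-- The monomial map. -/
def monomL (n : ℕ) : ↥(I ^ n • (⊤ : Submodule A M)) →ₗ[A] ReesM (Rees.powFilt I M) where
  toFun x := monomM (Rees.powFilt I M) n x
  map_add' x y := by
    refine ReesM.ext _ fun m => ?_
    rw [ReesM.coeff_add, coeff_monom, coeff_monom, coeff_monom]
    split_ifs
    · rfl
    · rw [add_zero]
  map_smul' a x := by
    refine ReesM.ext _ fun m => ?_
    rw [RingHom.id_apply, ReesM.coeff_smul_base, coeff_monom, coeff_monom]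
    split_ifs
    · rfl
    · rw [smul_zero]

theorem coeffL_monomL_same (n : ℕ) (x : ↥(I ^ n • (⊤ : Submodule A M))) :
    coeffL I M n (monomL I M n x) = x := by
  apply Subtype.ext
  change ReesM.coeff (Rees.powFilt I M) (monomM (Rees.powFilt I M) n x) n = x
  rw [coeff_monom, if_pos rfl]

theorem coeffL_monomL_ne (n m : ℕ) (h : n ≠ m) (x : ↥(I ^ n • (⊤ : Submodule A M))) :
    coeffL I M m (monomL I M n x) = 0 := by
  apply Subtype.ext
  change ReesM.coeff (Rees.powFilt I M) (monomM (Rees.powFilt I M) n x) m = 0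
  rw [coeff_monom, if_neg h]

theorem mkGM_eq_zero_iff' (y : ReesM (Rees.powFilt I M)) :
    mkGM (Rees.powFilt I M) y = 0 ↔
      ∀ n, coeffL I M n y ∈ (I • (⊤ : Submodule A ↥(I ^ n • (⊤ : Submodule A M)))) := by
  rw [mkGM_eq_zero_iff, mem_succMod_iff]
  refine forall_congr' fun n => ?_
  rw [Submodule.mem_smul_top_iff]
  change (ReesM.coeff (Rees.powFilt I M) y n ∈ I ^ (n + 1) • (⊤ : Submodule A M)) ↔
    (ReesM.coeff (Rees.powFilt I M) y n ∈ I • (I ^ n • (⊤ : Submodule A M)))
  rw [pow_succ', mul_smul]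

/-- The projection of the associated graded module onto its pieces. -/
def proj (n : ℕ) : GrMod (Rees.powFilt I M) →ₗ[A] Q I M n :=
  (Submodule.liftQ (LinearMap.ker (mkGM (Rees.powFilt I M)))
    ((Submodule.mkQ _).comp (coeffL I M n)) (by
      intro y hy
      rw [LinearMap.mem_ker, mkGM_eq_zero_iff'] at hy
      rw [LinearMap.mem_ker, LinearMap.comp_apply, Submodule.mkQ_apply,
        Submodule.Quotient.mk_eq_zero]
      exact hy n)).comp
  ((mkGM (Rees.powFilt I M)).quotKerEquivOfSurjective
    (mkGM_surjective (Rees.powFilt I M))).symm.toLinearMap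

theorem proj_mkGM (n : ℕ) (y : ReesM (Rees.powFilt I M)) :
    proj I M n (mkGM (Rees.powFilt I M) y) = Submodule.Quotient.mk (coeffL I M n y) := by
  have h : ((mkGM (Rees.powFilt I M)).quotKerEquivOfSurjective
      (mkGM_surjective (Rees.powFilt I M))).symm (mkGM (Rees.powFilt I M) y) =
      Submodule.Quotient.mk y := by
    rw [LinearEquiv.symm_apply_eq]
    rfl
  rw [proj, LinearMap.comp_apply, LinearEquiv.coe_coe, h]
  rfl

/-- The inclusion of the pieces. -/
def incl (n : ℕ) : Q I M n →ₗ[A] GrMod (Rees.powFilt I M) :=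
  Submodule.liftQ _ ((mkGM (Rees.powFilt I M)).comp (monomL I M n)) (by
    intro x hx
    rw [LinearMap.mem_ker, LinearMap.comp_apply, mkGM_eq_zero_iff']
    intro m
    by_cases h : n = m
    · subst h
      rw [coeffL_monomL_same]
      exact hx
    · rw [coeffL_monomL_ne I M n m h]
      exact Submodule.zero_mem _)

theorem incl_mk (n : ℕ) (x : ↥(I ^ n • (⊤ : Submodule A M))) :
    incl I M n (Submodule.Quotient.mk x) = mkGM (Rees.powFilt I M) (monomL I M n x) := rfl

theorem proj_incl_same (n : ℕ) (x : Q I M n) : proj I M n (incl I M n x) = x := by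
  obtain ⟨x, rfl⟩ := Submodule.Quotient.mk_surjective _ x
  rw [incl_mk, proj_mkGM, coeffL_monomL_same]

theorem proj_incl_ne (n m : ℕ) (h : n ≠ m) (x : Q I M n) : proj I M m (incl I M n x) = 0 := by
  obtain ⟨x, rfl⟩ := Submodule.Quotient.mk_surjective _ x
  rw [incl_mk, proj_mkGM, coeffL_monomL_ne I M n m h]
  rfl

/-- The projection, `A / I`-linear. -/
def proj' (n : ℕ) : GrMod (Rees.powFilt I M) →ₗ[A ⧸ I] Q I M n :=
  LinearMap.extendScalarsOfSurjective (Ideal.Quotient.mk_surjective) (proj I M n)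

/-- The inclusion, `A / I`-linear. -/
def incl' (n : ℕ) : Q I M n →ₗ[A ⧸ I] GrMod (Rees.powFilt I M) :=
  LinearMap.extendScalarsOfSurjective (Ideal.Quotient.mk_surjective) (incl I M n)

/-- The comparison map from the direct sum of the pieces. -/
def sumMap : (⨁ n : ℕ, Q I M n) →ₗ[A ⧸ I] GrMod (Rees.powFilt I M) :=
  DirectSum.toModule (A ⧸ I) ℕ _ (fun n => incl' I M n)

theorem sumMap_lof (n : ℕ) (x : Q I M n) :
    sumMap I M (DirectSum.lof (A ⧸ I) ℕ (fun n => Q I M n) n x) = incl I M n x :=
  DirectSum.toModule_lof _ _ _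

theorem proj_sumMap (m : ℕ) (x : ⨁ n : ℕ, Q I M n) : proj I M m (sumMap I M x) = x m := by
  induction x using DirectSum.induction_on with
  | zero => rw [map_zero, map_zero]; rfl
  | of n y =>
    change proj I M m (sumMap I M (DirectSum.lof (A ⧸ I) ℕ (fun n => Q I M n) n y)) = _
    rw [sumMap_lof]
    by_cases h : n = m
    · subst h
      rw [proj_incl_same, DirectSum.of_eq_same]
    · rw [proj_incl_ne I M n m h, DirectSum.of_eq_of_ne _ _ _ (Ne.symm h)]
  | add x y hx hy => rw [map_add, map_add, hx, hy]; rfl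

theorem sumMap_bijective : Function.Bijective (sumMap I M) := by
  constructor
  · rw [injective_iff_map_eq_zero]
    intro x hx
    refine DFinsupp.ext fun m => ?_
    have := proj_sumMap I M m x
    rw [hx, map_zero] at this
    exact this.symm
  · intro z
    obtain ⟨y, rfl⟩ := mkGM_surjective (Rees.powFilt I M) z
    rw [← LinearMap.mem_range, ← sum_termM (Rees.powFilt I M) y, map_sum]
    refine Submodule.sum_mem _ fun n _ => ?_
    refine ⟨DirectSum.lof (A ⧸ I) ℕ (fun n => Q I M n) n
      (Submodule.Quotient.mk (coeffL I M n y)), ?_⟩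
    rw [sumMap_lof, incl_mk]
    rfl

theorem flat_iff :
    EGA4.IsNormallyFlat I M ↔ Module.Flat (A ⧸ I) (GrMod (Rees.powFilt I M)) := by
  constructor
  · intro h
    have h1 : ∀ n, Module.Flat (A ⧸ I) (Q I M n) := h
    have h2 : Module.Flat (A ⧸ I) (⨁ n : ℕ, Q I M n) := inferInstance
    exact Module.Flat.of_linearEquiv (LinearEquiv.ofBijective _ (sumMap_bijective I M)).symm
  · intro h n
    have e : (proj' I M n) ∘ₗ (incl' I M n) = LinearMap.id :=
      LinearMap.ext (fun x => proj_incl_same I M n x)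
    exact Module.Flat.of_retract (incl' I M n) (proj' I M n) e

end K114.NormFlatGr
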