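import Groth.Agent.Ega4C.NormBase
import Groth.Agent.CalgB.RegHom7

/-!
# Normal homomorphisms via base changes to fields

* `isNormalHom_iff`: `A → B` is normal iff it is flat and `K ⊗[A] B` is a normal ring for every
  field `K` which is an `A`-algebra.
* `isNormalHom_of_comp`: descent of normality of `A → C` along a faithfully flat `B → C`.
-/

set_option autoImplicit false
universe u

namespace K114.NormHom

open EGA4 TensorProduct Groth.Agent.Ega4C

/-- Normal homomorphisms in terms of base changes to fields. -/
theorem isNormalHom_iff (A B : Type u) [CommRing A] [CommRing B] [Algebra A B] :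
    EGA4.IsNormalHom A B ↔ Module.Flat A B ∧
      ∀ (K : Type u) [Field K] [Algebra A K], EGA4.IsNormalRing (K ⊗[A] B) := by
  constructor
  · intro h
    refine ⟨h.1, fun K _ _ => ?_⟩
    exact NormUnion.isNormalRing_of_ringEquiv (Algebra.TensorProduct.comm A K B).toRingEquiv
      (NormBase.isNormalRing_tensor_field A B K h)
  · intro h
    refine ⟨h.1, fun p _ k' _ _ _ => ?_⟩
    let _ : Algebra A k' := ((algebraMap p.ResidueField k').comp (algebraMap A p.ResidueField)).toAlgebra
    have : IsScalarTower A p.ResidueField k' := IsScalarTower.of_algebraMap_eq (fun x => rfl)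
    exact NormUnion.isNormalRing_of_ringEquiv
      (Algebra.TensorProduct.cancelBaseChange A p.ResidueField p.ResidueField k' B).toRingEquiv
      (h.2 k')

/-- If `B → C` is faithfully flat and `A → C` is normal then `A → B` is normal. -/
theorem isNormalHom_of_comp (A B C : Type u) [CommRing A] [CommRing B] [CommRing C] [Algebra A B]
    [Algebra B C] [Algebra A C] [IsScalarTower A B C] [Module.FaithfullyFlat B C]
    (hAC : EGA4.IsNormalHom A C) : EGA4.IsNormalHom A B := by
  rw [isNormalHom_iff] at *
  have := hAC.1
  refine ⟨Groth.Agent.CalgB.RegHom7.flat_of_faithfullyFlat A B C, fun K _ _ => ?_⟩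
  let e1 : (B ⊗[A] K) ⊗[B] C ≃+* K ⊗[A] C :=
    ((Algebra.TensorProduct.comm B (B ⊗[A] K) C).toRingEquiv.trans
      (Algebra.TensorProduct.cancelBaseChange A B B C K).toRingEquiv).trans
      (Algebra.TensorProduct.comm A C K).toRingEquiv
  have h2 : IsNormalRing ((B ⊗[A] K) ⊗[B] C) :=
    NormUnion.isNormalRing_of_ringEquiv e1 (hAC.2 K)
  have h3 : IsNormalRing (B ⊗[A] K) :=
    NormUnion.isNormalRing_of_faithfullyFlat (B ⊗[A] K) ((B ⊗[A] K) ⊗[B] C) h2
  exact NormUnion.isNormalRing_of_ringEquiv (Algebra.TensorProduct.comm A K B).toRingEquiv h3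

/-- One may factor a normal homomorphism through a localization of the source. -/
theorem isNormalHom_localization_left {R S : Type u} (R' : Type u) [CommRing R] [CommRing S]
    [CommRing R'] [Algebra R S] [Algebra R R'] [Algebra R' S] [IsScalarTower R R' S]
    (M : Submonoid R) [IsLocalization M R'] (h : EGA4.IsNormalHom R S) :
    EGA4.IsNormalHom R' S := by
  rw [isNormalHom_iff] at *
  have := h.1
  refine ⟨(Module.flat_iff_of_isLocalization R' M S).mpr inferInstance, fun K _ _ => ?_⟩
  let _ : Algebra R K := Algebra.compHom K (algebraMap R R')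
  have : IsScalarTower R R' K := .of_algebraMap_eq fun x ↦ rfl
  exact NormUnion.isNormalRing_of_ringEquiv
    (IsLocalization.algebraTensorEquiv M R' K S).toRingEquiv (h.2 K)

end K114.NormHom
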