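import Groth.Agent.EGA4.K114.NormHom
import Groth.Agent.Pi1C.IndEtaleWE
import Groth.Agent.Proet.WEtale2
import Groth.Agent.Hensel.Lazard
import Groth.Agent.UnramA.IndEtLift
import Groth.Agent.CurvesB.EtaleCompl
import Mathlib.RingTheory.AdicCompletion.AsTensorProduct

/-!
# Normal homomorphisms and weakly étale maps; formal fibres of henselizations

* `isNormalHom_of_weaklyEtale`: if `A → S` is weakly étale and `A → B` is normal, `B` an
  `S`-algebra, then `S → B` is normal.
* `weaklyEtale_of_isHenselization`
* `hasGeomNormalFormalFibres_of_isHenselization`: formal fibres of the henselization of a Noetherian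
  local ring with geometrically normal formal fibres are geometrically normal.
-/

set_option autoImplicit false
universe u

namespace K114.NormHomWE

open EGA4 TensorProduct Groth.Agent

/-- Normality of homomorphisms passes from `A → B` to `S → B` when `A → S` is weakly étale. -/
theorem isNormalHom_of_weaklyEtale (A S B : Type u) [CommRing A] [CommRing S] [CommRing B]
    [Algebra A S] [Algebra S B] [Algebra A B] [IsScalarTower A S B] [Algebra.WeaklyEtale A S]
    (h : EGA4.IsNormalHom A B) : EGA4.IsNormalHom S B := by
  rw [K114.NormHom.isNormalHom_iff] at *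
  have := h.1
  refine ⟨Proet.WEtale2.flat_of_weaklyEtale_of_flat A S B, fun K _ _ => ?_⟩
  let _ : Algebra A K := ((algebraMap S K).comp (algebraMap A S)).toAlgebra
  have : IsScalarTower A S K := IsScalarTower.of_algebraMap_eq' rfl
  have h1 : IsNormalRing (K ⊗[A] B) := h.2 K
  have h2 : (Algebra.TensorProduct.mapOfCompatibleSMul S A K K B).Flat :=
    RingHom.Flat.mapOfCompatibleSMul K B (Algebra.WeaklyEtale.flat_lmul' A S)
  have h3 : Function.Surjective (Algebra.TensorProduct.mapOfCompatibleSMul S A K K B) := by
    intro x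
    obtain ⟨y, hy⟩ := TensorProduct.mapOfCompatibleSMul_surjective S A A K B x
    exact ⟨y, hy⟩
  exact Ega4C.NormUnion.isNormalRing_of_finset_flat _ fun t =>
    ⟨K ⊗[A] B, inferInstance, (Algebra.TensorProduct.mapOfCompatibleSMul S A K K B).toRingHom,
      h1, fun x _ => h3 x, h2⟩

theorem weaklyEtale_of_isHenselization (R S : Type u) [CommRing R] [IsLocalRing R] [CommRing S]
    [IsLocalRing S] [Algebra R S] [IsLocalHom (algebraMap R S)] [Hensel.IsHenselization R S] :
    Algebra.WeaklyEtale R S :=
  Pi1C.IndEtaleWE.weaklyEtale_of_lazard (Hensel.Lazard.laz_of_isHenselization R S)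

/-- For Noetherian local rings, geometrically normal formal fibres mean that the completion map is
normal. -/
theorem hasGeomNormalFormalFibres_iff (A : Type u) [CommRing A] [IsLocalRing A]
    [IsNoetherianRing A] : EGA4.HasGeomNormalFormalFibres A ↔ EGA4.IsNormalHom A (EGA4.Cpl A) :=
  ⟨fun h => ⟨inferInstance, h⟩, fun h => h.2⟩

/-- Transport of normality of a homomorphism along an isomorphism of algebras. -/
theorem isNormalHom_of_algEquiv {A B C : Type u} [CommRing A] [CommRing B] [CommRing C]
    [Algebra A B] [Algebra A C] (e : B ≃ₐ[A] C) (h : EGA4.IsNormalHom A B) :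
    EGA4.IsNormalHom A C := by
  rw [K114.NormHom.isNormalHom_iff] at *
  have := h.1
  refine ⟨Module.Flat.of_linearEquiv e.symm.toLinearEquiv, fun K _ _ => ?_⟩
  exact Ega4C.NormUnion.isNormalRing_of_ringEquiv
    (Algebra.TensorProduct.congr (AlgEquiv.refl : K ≃ₐ[K] K) e.symm).toRingEquiv (h.2 K)

/-- The completion of a Noetherian local ring and of its henselization agree. -/
theorem exists_cpl_algEquiv_of_isHenselization (R S : Type u) [CommRing R] [IsLocalRing R]
    [IsNoetherianRing R] [CommRing S] [IsLocalRing S] [Algebra R S] [IsLocalHom (algebraMap R S)]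
    [Hensel.IsHenselization R S] : IsNoetherianRing S ∧ Nonempty (EGA4.Cpl R ≃ₐ[R] EGA4.Cpl S) := by
  have h := Groth.Agent.UnramA.IndEtLift.isIndEt_of_isHenselization R S
  have hflat := Groth.Agent.UnramA.IndEtLift.flat h
  have hS := Groth.Agent.UnramA.IndEtLift.isNoetherianRing h
  have hm := Groth.Agent.UnramA.IndEtLift.map_maximalIdeal h
  have hres : ∀ b : S, ∃ a : R, b - algebraMap R S a ∈ IsLocalRing.maximalIdeal S := by
    intro b
    obtain ⟨x, hx⟩ := (Groth.Agent.Hensel.Exist.residueField_bijective_of_isHenselization R S).2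
      (IsLocalRing.residue S b)
    obtain ⟨a, rfl⟩ := IsLocalRing.residue_surjective x
    refine ⟨a, ?_⟩
    rw [IsLocalRing.ResidueField.map_residue] at hx
    rw [← IsLocalRing.residue_eq_zero_iff, map_sub, hx, sub_self]
  obtain ⟨e, he⟩ :=
    Groth.Agent.CurvesB.EtaleCompl.exists_completion_ringEquiv_of_flat (A := R) (B := S) hm hres
  exact ⟨hS, ⟨AlgEquiv.ofRingEquiv (f := e) (fun a => by
      rw [he a]
      rfl)⟩⟩

/-- The formal fibres of the henselization are geometrically normal if those of the ring are. -/
theorem hasGeomNormalFormalFibres_of_isHenselization (R S : Type u) [CommRing R] [IsLocalRing R]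
    [IsNoetherianRing R] [CommRing S] [IsLocalRing S] [Algebra R S] [IsLocalHom (algebraMap R S)]
    [Hensel.IsHenselization R S] (h : EGA4.HasGeomNormalFormalFibres R) :
    EGA4.HasGeomNormalFormalFibres S := by
  obtain ⟨hS, ⟨e⟩⟩ := exists_cpl_algEquiv_of_isHenselization R S
  have := weaklyEtale_of_isHenselization R S
  have : IsScalarTower R S (AdicCompletion (IsLocalRing.maximalIdeal S) S) :=
    IsScalarTower.of_algebraMap_eq fun a => rfl
  rw [hasGeomNormalFormalFibres_iff] at *
  exact isNormalHom_of_weaklyEtale R S _ (isNormalHom_of_algEquiv e h)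

end K114.NormHomWE
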