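import Mathlib.RingTheory.AdicCompletion.Completeness
import Mathlib.RingTheory.AdicCompletion.LocalRing
import Mathlib.RingTheory.AdicCompletion.AsTensorProduct
import Mathlib.RingTheory.Flat.FaithfullyFlat.Algebra
import Mathlib.RingTheory.Flat.Localization

/-!
# The localization at `1 + J` and the `J`-adic completion

* `isUnit_of_evalOne`: an element of `Â` whose image in `A / J` is a unit is a unit.
* `lift`: the homomorphism `A_T → Â` for `T = 1 + J`.
* `faithfullyFlat`: it is faithfully flat for `A` Noetherian.
-/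

set_option autoImplicit false
universe u

namespace K114.OnePlus

/-- An element of an adic completion is a unit when its image in `S ⧸ I` is. -/
theorem isUnit_of_evalOne {S : Type u} [CommRing S] (I : Ideal S) (hI : I.FG) (x : AdicCompletion I S)
    (hx : IsUnit (AdicCompletion.evalOneₐ I x)) : IsUnit x := by
  have hcomplete := AdicCompletion.isAdicComplete_self I hI
  have hker : RingHom.ker (AdicCompletion.evalOneₐ I) = I.map (algebraMap S (AdicCompletion I S)) :=
    AdicCompletion.ker_evalOneₐ_eq_map I hI
  have hjac : RingHom.ker (AdicCompletion.evalOneₐ I) ≤ (⊥ : Ideal (AdicCompletion I S)).jacobson := by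
    rw [hker]
    exact IsAdicComplete.le_jacobson_bot _
  obtain ⟨b, hb⟩ := hx.exists_right_inv
  obtain ⟨c, rfl⟩ := AdicCompletion.evalOneₐ_surjective I b
  have h1 : x * c - 1 ∈ RingHom.ker (AdicCompletion.evalOneₐ I) := by
    rw [RingHom.mem_ker, map_sub, map_mul, hb, map_one, sub_self]
  have h2 : IsUnit (x * c) := by
    have := Ideal.mem_jacobson_bot.1 (hjac h1) 1
    simpa using this
  exact isUnit_of_mul_isUnit_left h2

variable {A : Type u} [CommRing A] (J : Ideal A)

theorem evalOne_algebraMap (a : A) :
    AdicCompletion.evalOneₐ J (algebraMap A (AdicCompletion J A) a) = Ideal.Quotient.mk J a :=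
  RingHom.congr_fun (AdicCompletion.evalOneₐ_comp_algebraMap_eq_mk J) a

theorem isUnit_algebraMap (hJ : J.FG) (t : A) (ht : Ideal.Quotient.mk J t = 1) :
    IsUnit (algebraMap A (AdicCompletion J A) t) := by
  apply isUnit_of_evalOne J hJ
  rw [evalOne_algebraMap, ht]
  exact isUnit_one

/-- The homomorphism `A_T → Â`. -/
noncomputable def lift (hJ : J.FG) (T : Submonoid A) (hT : T = MonoidHom.mker (Ideal.Quotient.mk J))
    (AT : Type u) [CommRing AT] [Algebra A AT] [IsLocalization T AT] :
    AT →ₐ[A] AdicCompletion J A :=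
  IsLocalization.liftAlgHom (M := T) (f := Algebra.ofId A (AdicCompletion J A)) (by
    rintro ⟨t, ht⟩
    refine isUnit_algebraMap J hJ t ?_
    rw [hT] at ht
    exact ht)

/-- `A_T → Â` is faithfully flat. -/
theorem faithfullyFlat [IsNoetherianRing A] (T : Submonoid A)
    (hT : T = MonoidHom.mker (Ideal.Quotient.mk J))
    (AT : Type u) [CommRing AT] [Algebra A AT] [IsLocalization T AT]
    [Algebra AT (AdicCompletion J A)] [IsScalarTower A AT (AdicCompletion J A)] :
    Module.FaithfullyFlat AT (AdicCompletion J A) := by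
  have hflat : Module.Flat AT (AdicCompletion J A) :=
    (Module.flat_iff_of_isLocalization AT T (AdicCompletion J A)).mpr inferInstance
  refine ⟨?_⟩
  intro m hm htop
  -- the composite `A_T → Â → A / J`
  let π : AT →+* A ⧸ J := (AdicCompletion.evalOneₐ J).toRingHom.comp
    (algebraMap AT (AdicCompletion J A))
  have hπ : ∀ a : A, π (algebraMap A AT a) = Ideal.Quotient.mk J a := by
    intro a
    change AdicCompletion.evalOneₐ J (algebraMap AT (AdicCompletion J A) (algebraMap A AT a)) = _
    rw [← IsScalarTower.algebraMap_apply, evalOne_algebraMap]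
  have hπs : Function.Surjective π := by
    intro x
    obtain ⟨a, rfl⟩ := Ideal.Quotient.mk_surjective x
    exact ⟨algebraMap A AT a, hπ a⟩
  have h1 : m.map (algebraMap AT (AdicCompletion J A)) = ⊤ := by
    rw [Ideal.smul_top_eq_map] at htop
    have h2 : (1 : AdicCompletion J A) ∈
        ((m.map (algebraMap AT (AdicCompletion J A))).restrictScalars AT) := by
      rw [htop]; trivial
    exact (Ideal.eq_top_iff_one _).2 h2
  have h2 : m.map π = ⊤ := by
    rw [← Ideal.map_map, h1, Ideal.map_top]
  have h3 : (1 : A ⧸ J) ∈ m.map π := by rw [h2]; trivial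
  obtain ⟨x, hx, hx1⟩ := (Ideal.mem_map_iff_of_surjective π hπs).1 h3
  obtain ⟨⟨a, t⟩, hat⟩ := IsLocalization.surj T x
  simp only at hat
  have ht : Ideal.Quotient.mk J (t : A) = 1 := hT.le t.2
  have ha : Ideal.Quotient.mk J a = 1 := by
    rw [← hπ, ← hat, map_mul, hx1, hπ, ht, one_mul]
  have haT : a ∈ T := by rw [hT]; exact ha
  have hu : IsUnit (x * algebraMap A AT t) := by
    rw [hat]
    exact IsLocalization.map_units AT (⟨a, haT⟩ : T)
  exact hm.ne_top (Ideal.eq_top_of_isUnit_mem _ hx (isUnit_of_mul_isUnit_left hu))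

end K114.OnePlus
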