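import Groth.Agent.Ega4dB.DepthOpen
import Groth.Agent.S2085
import Mathlib.RingTheory.KrullDimension.Regular

/-!
# Serre's conditions and embedded primes of quotients by regular sequences
-/

set_option autoImplicit false
universe u

namespace K114.SkSeq

open RingTheory.Sequence IsLocalRing Groth.Agent

/-- If `(S_k)` fails at `p` then there is an `M_p`-regular sequence in `p` of length `< k` such that `p`
is an embedded associated prime of the quotient. -/
theorem exists_embedded {A M : Type u} [CommRing A] [IsNoetherianRing A] [AddCommGroup M] [Module A M]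
    [Module.Finite A M] (k : ℕ) (p : Ideal A) [p.IsPrime]
    (h : ¬ (min (k : WithBot ℕ∞)
        (Module.supportDim (Localization.AtPrime p) (LocalizedModule p.primeCompl M)) ≤
      ((LocCoh.depth (Localization.AtPrime p) (LocalizedModule p.primeCompl M) : ℕ∞) :
        WithBot ℕ∞))) :
    ∃ rs : List A, rs.length < k ∧ IsWeaklyRegular (LocalizedModule p.primeCompl M) rs ∧
      p ∈ associatedPrimes A (M ⧸ (Ideal.ofList rs • (⊤ : Submodule A M))) ∧
      ∃ q ∈ associatedPrimes A (M ⧸ (Ideal.ofList rs • (⊤ : Submodule A M))), q < p := by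
  rw [not_le, lt_min_iff] at h
  obtain ⟨hk, hdim⟩ := h
  set Ap := Localization.AtPrime p with hAp
  set Mp := LocalizedModule p.primeCompl M with hMp
  have hk' : LocCoh.depth Ap Mp < (k : ℕ∞) := by exact_mod_cast hk
  obtain ⟨d, hd⟩ : ∃ d : ℕ, LocCoh.depth Ap Mp = d :=
    ⟨(LocCoh.depth Ap Mp).toNat, (ENat.coe_toNat (ne_top_of_lt hk')).symm⟩
  have hdk : d < k := by rw [hd] at hk'; exact_mod_cast hk'
  obtain ⟨rs, hlen, hmem, hreg⟩ := Ega4dB.DepthOpen.exists_isWeaklyRegular_localized p p M d
    (fun q _ h1 h2 => by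
      obtain rfl := le_antisymm h1 h2
      exact hd.ge)
  refine ⟨rs, hlen ▸ hdk, hreg, ?_⟩
  have hnt : Nontrivial Mp := by
    by_contra hcon
    rw [not_nontrivial_iff_subsingleton] at hcon
    rw [Module.supportDim_eq_bot_of_subsingleton] at hdim
    exact not_lt_bot hdim
  -- the sequence over `A_p`
  let rs' := rs.map (algebraMap A Ap)
  have hmem' : ∀ r ∈ rs', r ∈ maximalIdeal Ap := by
    intro r hr
    obtain ⟨a, ha, rfl⟩ := List.mem_map.mp hr
    exact (IsLocalization.AtPrime.to_map_mem_maximal_iff Ap p a).mpr (hmem a ha)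
  have hreg' : IsWeaklyRegular Mp rs' := (isWeaklyRegular_map_algebraMap_iff Ap Mp rs).mpr hreg
  have hI : (Ideal.ofList rs).map (algebraMap A Ap) = Ideal.ofList rs' := Ideal.map_ofList _ _
  let e : (Mp ⧸ (Ideal.ofList rs' • (⊤ : Submodule Ap Mp))) ≃ₗ[Ap]
      LocalizedModule p.primeCompl (M ⧸ (Ideal.ofList rs • (⊤ : Submodule A M))) :=
    (Submodule.quotEquivOfEq _ _ (by rw [hI])).trans
      (Ega4B.DepthBasic.localizedQuotIdealSMulTopEquiv p.primeCompl (Ideal.ofList rs) M)
  have hIsReg : IsRegular Mp rs' := by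
    refine ⟨hreg', ?_⟩
    intro htop
    have hle : Ideal.ofList rs' ≤ (⊥ : Ideal Ap).jacobson := by
      rw [IsLocalRing.jacobson_eq_maximalIdeal ⊥ bot_ne_top]
      exact Ideal.span_le.mpr hmem'
    exact Submodule.top_ne_ideal_smul_of_le_jacobson_annihilator
      (hle.trans (Ideal.jacobson_mono bot_le)) htop
  have hdep : LocCoh.depth Ap (Mp ⧸ (Ideal.ofList rs' • (⊤ : Submodule Ap Mp))) + rs'.length =
      LocCoh.depth Ap Mp := Ega4B.DepthBasic.depth_quot_ofList_add_length rs' hmem' Mp hreg'
  have hlen' : rs'.length = d := by rw [List.length_map, hlen]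
  have hdim' := Module.supportDim_add_length_eq_supportDim_of_isRegular (M := Mp) rs' hIsReg
  set N := M ⧸ (Ideal.ofList rs • (⊤ : Submodule A M)) with hN
  set N' := Mp ⧸ (Ideal.ofList rs' • (⊤ : Submodule Ap Mp)) with hN'
  have hcomap : (maximalIdeal Ap).comap (algebraMap A Ap) = p :=
    IsLocalization.AtPrime.under_maximalIdeal _ p
  -- the quotient has positive dimension
  have hpos : 0 < Module.supportDim Ap N' := by
    by_contra hcon
    rw [not_lt] at hcon
    have h1 : Module.supportDim Ap Mp ≤ d := by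
      rw [← hdim', hlen']
      calc Module.supportDim Ap N' + (d : WithBot ℕ∞) ≤ 0 + (d : WithBot ℕ∞) := by gcongr
        _ = d := zero_add _
    rw [hd] at hdim
    exact absurd (hdim.trans_le h1) (lt_irrefl _)
  have hntN' : Nontrivial N' := by
    by_contra hcon
    rw [not_nontrivial_iff_subsingleton] at hcon
    rw [Module.supportDim_eq_bot_of_subsingleton] at hpos
    exact not_lt_bot hpos
  -- the quotient has depth zero
  have hassmax : maximalIdeal Ap ∈ associatedPrimes Ap N' := by
    by_contra hcon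
    rw [← Groth.Agent.S2085.one_le_depth_iff] at hcon
    have h1 : LocCoh.depth Ap N' + (d : ℕ∞) = 0 + d := by
      rw [zero_add]
      calc LocCoh.depth Ap N' + (d : ℕ∞) = LocCoh.depth Ap N' + (rs'.length : ℕ∞) := by rw [hlen']
        _ = LocCoh.depth Ap Mp := hdep
        _ = d := hd
    have h2 : LocCoh.depth Ap N' = 0 := by
      exact WithTop.add_right_cancel (ENat.coe_ne_top d) h1
    rw [h2] at hcon
    exact absurd hcon (by simp)
  have hassp : p ∈ associatedPrimes A N := by
    have h1 : maximalIdeal Ap ∈ associatedPrimes Ap (LocalizedModule p.primeCompl N) := by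
      rwa [← LinearEquiv.AssociatedPrimes.eq e]
    have h2 := Module.associatedPrimes.comap_mem_associatedPrimes_of_mem_associatedPrimes_of_isLocalizedModule_of_fg
      p.primeCompl (LocalizedModule.mkLinearMap p.primeCompl N) _ h1 (IsNoetherian.noetherian _)
    rwa [hcomap] at h2
  refine ⟨hassp, ?_⟩
  have hpos' : 0 < Module.supportDim Ap (LocalizedModule p.primeCompl N) := by
    rwa [← Module.supportDim_eq_of_equiv e]
  rw [Module.supportDim, Order.krullDim_pos_iff] at hpos'
  obtain ⟨⟨q1, h1⟩, ⟨q2, h2⟩, hlt⟩ := hpos'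
  have hlt' : q1.asIdeal < q2.asIdeal := hlt
  have hlt2 : q1.asIdeal.comap (algebraMap A Ap) < q2.asIdeal.comap (algebraMap A Ap) := by
    refine lt_of_le_of_ne (Ideal.comap_mono hlt'.le) ?_
    intro heq
    apply hlt'.ne
    have e1 := IsLocalization.map_under p.primeCompl Ap q1.asIdeal
    have e2 := IsLocalization.map_under p.primeCompl Ap q2.asIdeal
    have e3 : q1.asIdeal.under A = q2.asIdeal.under A := heq
    rw [← e1, e3, e2]
  have hle : q2.asIdeal.comap (algebraMap A Ap) ≤ p := by
    calc _ ≤ (maximalIdeal Ap).comap (algebraMap A Ap) :=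
          Ideal.comap_mono (le_maximalIdeal q2.isPrime.ne_top)
      _ = p := hcomap
  have hann : Module.annihilator A N ≤ q1.asIdeal.comap (algebraMap A Ap) := by
    intro r hr
    rw [Ideal.mem_comap]
    rw [Module.mem_support_iff_of_finite] at h1
    apply h1
    rw [Module.mem_annihilator] at hr ⊢
    intro m
    obtain ⟨⟨x, s⟩, rfl⟩ := IsLocalizedModule.mk'_surjective p.primeCompl
      (LocalizedModule.mkLinearMap p.primeCompl N) m
    simp only [Function.uncurry_apply_pair]
    rw [algebraMap_smul, ← IsLocalizedModule.mk'_smul, hr, IsLocalizedModule.mk'_zero]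
  have := q1.isPrime.comap (algebraMap A Ap)
  obtain ⟨q, hq, hqle⟩ := Ideal.exists_minimalPrimes_le hann
  exact ⟨q, Module.associatedPrimes.minimalPrimes_annihilator_subset_associatedPrimes A N hq,
    lt_of_le_of_lt hqle (lt_of_lt_of_le hlt2 hle)⟩

end K114.SkSeq
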